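import Cfsg.Agent.Ld.O2a

/-! Split endgame without purity: graph automorphisms. -/

set_option autoImplicit false
set_option linter.unusedSectionVars false

namespace CF.Ld

open Cfsg Subgroup CF.Loc CF.LX Ty
open scoped commutatorElement

variable {G : Type*} [Group G] [Finite G]
variable {Γ Φ : Type*} [CommGroup Γ] [CommGroup Φ] {E M A S W : Subgroup G} {t z : G} {γ : G → Γ} {φ : G → Φ}
  {a g l k : ℕ} {s r m u v w x y : G} {H R : Subgroup G}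

namespace OK
variable (h : OK E M A S W t z γ φ a g l k)
include h

theorem c1g (p : w ∈ M ⊓ 𝐍(A)) (c : w * t = t * w) (w2 : w * w = 1) (e : γ w ≠ 1) (R : Subgroup G) (q : IsPGroup 2 R)
    (l : R ≤ 𝐂₁(w)) : Nat.card R ≤ 2 * Nat.card W * g ^ 2 := h.c1 p c w2 (fun s m r _ => h.upG s m (r ▸ e)) q l
/-- an involution without field part whose centralizer has small `2`-subgroups has graph type -/
theorem gg (e : ∃ w ∈ W, γ w ≠ 1) (p : s ∈ S ⊓ 𝐍(A)) (s2 : s * s = 1) (f1 : φ s = 1) (f2 : φ (t * s * t) = 1)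
    (up : ∀ R : Subgroup G, IsPGroup 2 R → R ≤ 𝐂₁(s) → Nat.card R ≤ 2 * Nat.card W * g ^ 2) : GG (τ t γ φ s) := by
  obtain ⟨n1, n2, -⟩ := h.nG e
  obtain ⟨p, q, b, ⟨-, a2, a3⟩, -, b2, b3⟩ := h.low p s2 up
  have m : 0 < Nat.card W := Nat.card_pos
  have k : ∀ {p q}, l ≤ p → g ≤ q → ¬ p * q ≤ 2 * Nat.card W * g ^ 2 := fun a b c => by
    have := (Nat.mul_le_mul a b).trans c
    nlinarith [Nat.pos_of_ne_zero (show g ≠ 0 by rintro rfl; omega)]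
  have k' : g ≤ l := by nlinarith
  exact ⟨⟨fun r => k (a3 f1 r) ((em _).elim (fun r => k'.trans (b3 f2 r)) (b2 f2)) b, f1⟩,
    fun r => k (b3 f2 r) ((em _).elim (fun r => k'.trans (a3 f1 r)) (a2 f1)) (mul_comm p q ▸ b), f2⟩
theorem nof (e : ∃ w ∈ W, γ w ≠ 1) (p : s ∈ S ⊓ 𝐍(A)) (b : g ≤ Nat.card ↥(S ⊓ A ⊓ 𝐂₁(s))) : φ s = 1 := by
  by_contra f
  have := ((h.nG e).2.2.2 (h.exF p f)).1
  nlinarith [h.upF s p f, (Nat.card_pos : 0 < Nat.card W)]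
theorem nC (p : m ∈ M ⊓ 𝐍(A)) (q : x ∈ 𝐂(A)) : m * x * m⁻¹ ∈ 𝐂(A) :=
  conj_mem_of_mem_normalizer (normalizer_le_normalizer_centralizer A p.2) q
theorem cls1 (p : s ∈ S ⊓ 𝐍(A)) (s2 : s * s = 1) (hx : x ∈ W) (e : γ x ≠ 1) (f : φ x = 1) (e' : γ s ≠ 1) (f' : φ s = 1) :
    ∃ c ∈ A, ∃ ξ, (ξ = 1 ∨ ξ = z) ∧ c * s * c⁻¹ * (ξ * x)⁻¹ ∈ 𝐂(A) := by
  obtain ⟨u, a, v, b, w, c, rfl, e1, e2, -⟩ := h.wdec p
  have k : w * x⁻¹ ∈ 𝐂(A) := h.cen _ (mul_mem c (inv_mem hx)) (by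
    rw [h.γm _ (h.W0 c) _ (inv_mem (h.W0 hx)), h.γi (h.W0 hx), h.Γ1 (γ w) _ (e1 ▸ e') e, mul_inv_cancel]) (by
    rw [h.φm _ (h.W0 c) _ (inv_mem (h.W0 hx)), h.φi (h.W0 hx), ← e2, f, f', mul_inv_cancel])
  obtain ⟨d, m, q⟩ := (h.cls w c (e1 ▸ e') (e2 ▸ f')).2 u a (h.com' (h.sqC a.2 b.2 (h.W0 c) s2))
  obtain ⟨ξ, r, q⟩ : ∃ ξ, (ξ = 1 ∨ ξ = z) ∧ d * (u * w) * d⁻¹ * (ξ * w)⁻¹ ∈ 𝐂(A) :=
    q.elim (fun q => ⟨1, .inl rfl, by rwa [one_mul]⟩) fun q => ⟨z, .inr rfl, q⟩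
  have n : ξ ∈ M ⊓ 𝐍(A) := r.elim (· ▸ one_mem _) (· ▸ h.A0 h.zA.2)
  refine ⟨d, m, ξ, r, ?_⟩
  rw [show d * (u * v * w) * d⁻¹ * (ξ * x)⁻¹ = (d * u) * v * (d * u)⁻¹ * (d * (u * w) * d⁻¹ * (ξ * w)⁻¹) *
    (ξ * (w * x⁻¹) * ξ⁻¹) by group]
  exact mul_mem (mul_mem (h.nC (h.A0 (mul_mem m a.2)) (h.com' b.2)) q) (h.nC n k)
theorem tt' (x : G) : t * (t * x) = x := by rw [← mul_assoc, h.tt, one_mul]
theorem zc' : S ⊓ 𝐍(A) ≤ 𝐂₁(t * z * t) := fun x m => by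
  simpa only [h.ti, h.tc] using cjc t h.zc (conj_mem_cj t (h.tjS m))
theorem cls2 (p : s ∈ S ⊓ 𝐍(A)) (s2 : s * s = 1) (q : GG (τ t γ φ s)) : ∃ x ∈ W, x * t = t * x ∧ x * x = 1 ∧ γ x ≠ 1 ∧ φ x = 1 ∧
    ∃ ξ ξ', (ξ = 1 ∨ ξ = z) ∧ (ξ' = 1 ∨ ξ' = z) ∧ IsConj s (ξ * (t * ξ' * t) * x) := by
  obtain ⟨x, hx, e, -⟩ := h.τ_wd p
  have q' := e ▸ q
  have c := h.diag hx (h.Γ1 _ _ q'.2.1 q'.1.1) (q'.2.2.trans q'.1.2.symm)
  have x2 := h.τ_sq hx (h.S0 p) s2 e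
  obtain ⟨d, m, ξ, r, b⟩ := h.cls1 p s2 hx q'.1.1 q'.1.2 q.1.1 q.1.2
  obtain ⟨d', m', ξ', r', b'⟩ := h.cls1 (h.tjS p) (h.tsq s2) hx q'.1.1 q'.1.2 q.2.1 q.2.2
  refine ⟨x, hx, c, x2, q'.1.1, q'.1.2, ξ, ξ', r, r', ?_⟩
  have n : ∀ {ξ}, ξ = 1 ∨ ξ = z → ξ ∈ S ⊓ A ∧ ξ * ξ = 1 ∧ ξ * x = x * ξ := by
    rintro _ (rfl | rfl)
    exacts [⟨one_mem _, by simp, by simp⟩, ⟨h.zA, h.zz, (mem_c1.1 (h.zc (h.WS hx))).symm⟩]
  have n1 := n r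
  have n2 := n r'
  have n3 : t * ξ' * t * x = x * (t * ξ' * t) := by rw [← h.tfix c, ← h.tmul, ← h.tmul, n2.2.2]
  have y2 : ξ * (t * ξ' * t) * x * (ξ * (t * ξ' * t) * x) = 1 := by
    rw [(Commute.mul_left n1.2.2 n3).symm.mul_mul_mul_comm, x2, mul_one, Commute.mul_mul_mul_comm
      (h.cm12 n1.1.2 (h.t_mem n2.1.2)).symm, h.tsq n2.2.1, mul_one, n1.2.1]
  have s0 := h.S0 p
  have d0 := h.A0 m
  have d1 := h.B0 (h.t_mem m')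
  refine (isConj_iff.2 ⟨d * (t * d' * t), rfl⟩).trans (h.cnjC (h.cjM (mul_mem d0 d1).1 s0).1 (mul_mem (mul_mem (h.A0 n1.1.2)
    (h.B0 (h.t_mem n2.1.2))) (h.W0 hx)).1 (by rw [← conj_mul_conj, s2, mul_one, mul_inv_cancel]) y2 ?_ (h.c12.2 ?_))
  · rw [← inv_eq_of_mul_eq_one_right y2, show d * (t * d' * t) * s * (d * (t * d' * t))⁻¹ * (ξ * (t * ξ' * t) * x)⁻¹ =
      d * (t * d' * t) * d⁻¹ * (d * s * (t * d' * t)⁻¹ * (d * s)⁻¹) * (d * s * d⁻¹ * (ξ * x)⁻¹) *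
      (ξ * (t * ξ' * t)⁻¹ * ξ⁻¹) by group]
    exact mul_mem (mul_mem (mul_mem (h.nC d0 (h.com' (h.t_mem m'))) (h.nC (mul_mem d0 s0) (inv_mem (h.com' (h.t_mem m'))))) b)
      (h.nC (h.A0 n1.1.2) (inv_mem (h.com' (h.t_mem n2.1.2))))
  rw [← h.tfix c] at b'
  rw [← inv_eq_of_mul_eq_one_right y2, show t * (d * (t * d' * t) * s * (d * (t * d' * t))⁻¹ * (ξ * (t * ξ' * t) * x)⁻¹) * t =
      t * d * t * (d' * (t * s * t) * d'⁻¹ * (t * d * t)⁻¹ * (d' * (t * s * t) * d'⁻¹)⁻¹) *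
      (d' * (t * s * t) * d'⁻¹ * (ξ' * (t * x * t))⁻¹) * (t * ξ * t)⁻¹ by
    simp only [mul_assoc, mul_inv_rev, inv_inv, h.ti, h.tt', inv_mul_cancel_left, mul_inv_cancel_left]]
  exact mul_mem (mul_mem (mul_mem (h.com' (h.t_mem m)) (h.nC (h.cjM (h.AM m') (h.tj s0)) (inv_mem (h.com' (h.t_mem m))))) b')
    (inv_mem (h.com' (h.t_mem n1.1.2)))
omit h in
theorem GG_mul {p q : (Γ × Φ) × Γ × Φ} (e : p = 1) (b : GG q) : GG (p * q) := by rwa [e, one_mul]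
theorem GG_M (e : m ∈ M) (p : s ∈ M ⊓ 𝐍(A)) (b : GG (τ t γ φ s)) : GG (τ t γ φ (m * s * m⁻¹)) :=
  (h.τ_M e).elim (fun q => q s p ▸ b) fun q => q s p ▸ ⟨b.2, b.1⟩
theorem mix (hx : x ∈ W) (c : x * t = t * x) (x2 : x * x = 1) (e : γ x ≠ 1) (f : φ x = 1) (R : Subgroup G)
    (p : IsPGroup 2 R) (hR : R ≤ 𝐂₁(t * z * t * x)) : Nat.card R ≤ 2 * Nat.card W * g ^ 2 := by
  set y := t * z * t * x with hy
  set P := S ⊓ 𝐍(A) ⊓ 𝐂₁(x) with hP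
  have zx := fun q (m : q ∈ P) => mem_c1.1 (h.zc' m.1)
  have Py : P ≤ 𝐂₁(y) := fun q m => mem_c1.2 (by rw [hy, ← mul_assoc, zx q m, mul_assoc, mem_c1.1 m.2, ← mul_assoc])
  have xP : x ∈ P := ⟨h.WS hx, mem_c1.2 rfl⟩
  have WP : W ≤ P := fun q m => ⟨h.WS m, mem_c1.2 (h.wcomm m hx)⟩
  have C1 : S ⊓ A ⊓ 𝐂₁(x) ≤ P := inf_le_inf_right _ h.U1
  have tP : cj[t] P = P := by
    refine cj_eq_self (mem_normalizer_of_conj_mem fun q m => mem_inf.2 ⟨h.ti.symm ▸ h.tjS m.1, ?_⟩)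
    simpa only [← c, mul_inv_cancel_right] using cjc t inf_le_right (conj_mem_cj t m)
  have C2 : cj[t] (S ⊓ A ⊓ 𝐂₁(x)) ≤ P := tP ▸ cj_mono t C1
  have zP : t * z * t ∈ ⁅P, P⁆ := by
    have := h.t_mem (h.cls x hx e f).1
    rw [cj_commutator] at this
    exact commutator_mono C2 C2 this
  have yP : y ∈ P := mul_mem (commutator_le_left_of_le_normalizer le_normalizer zP) xP
  have y2 : y * y = 1 := by rw [hy, mul_assoc, ← mul_assoc x, zx x xP, mul_assoc _ x, x2, mul_one, h.tsq h.zz]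
  have pP : IsPGroup 2 P := h.pS.to_le (inf_le_left.trans inf_le_left)
  have lg := h.loG x hx e f
  have mW : 0 < Nat.card W := Nat.card_pos
  have up : ∀ {s}, s ∈ S ⊓ 𝐍(A) → GG (τ t γ φ s) → Nat.card ↥(S ⊓ 𝐍(A) ⊓ 𝐂₁(s)) ≤ Nat.card W * (g * g) := fun m q =>
    (h.upS0 m).trans (Nat.mul_le_mul_left _ (Nat.mul_le_mul (h.upG _ m q.1.1) (h.upG _ (h.tjS m) q.2.1)))
  have gx : GG (τ t γ φ x) := ⟨⟨e, f⟩, by simpa only [τ, h.tfix c] using ⟨e, f⟩⟩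
  obtain ⟨Q, sQ, lQ⟩ := exists_isSyl_ge pP Py
  rcases lQ.eq_or_lt with rfl | lQ
  · exact (sQ.card_le p hR).trans ((up xP.1 gx).trans (by nlinarith))
  obtain ⟨T, sT, lT⟩ := exists_isSyl_ge (Q := P ⊔ zpowers t) (L := 𝐍(P)) (h.pS.to_le (sup_le (inf_le_left.trans inf_le_left)
    (zpowers_le.2 h.tS))) (sup_le le_normalizer (zpowers_le.2 (cj_eq_self_iff.1 tP)))
  have tT := lT (mem_sup_right (mem_zpowers t))
  obtain ⟨n, nP, l1⟩ := sT.exists_cj_le (Q := Q ⊓ 𝐍(P)) (sQ.isPGroup.to_le inf_le_left) inf_le_right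
  obtain ⟨μ, μM, l2⟩ := h.sylM.exists_cj_le sT.isPGroup (h.sub2 sT.isPGroup tT)
  have cn := cj_eq_self nP
  have cz : ∀ {x}, P ≤ 𝐂₁(x) → P ≤ 𝐂₁(n * x * n⁻¹) := fun l => cn ▸ cjc n l
  have x1 := conj_mem_of_mem_normalizer nP xP
  have g1 : GG (τ t γ φ (n * x * n⁻¹)) := h.gg ⟨x, hx, e⟩ x1.1 (by rw [← conj_mul_conj, x2, mul_one, mul_inv_cancel])
    (h.nof ⟨x, hx, e⟩ x1.1 (lg.trans (cle (le_inf inf_le_left (C1.trans (cz inf_le_right))))))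
    (h.nof ⟨x, hx, e⟩ (h.tjS x1.1) (lg.trans (cle (le_inf inf_le_left (by
      simpa only [h.cjtt, h.ti] using cjc t (C2.trans (cz inf_le_right)))))))
    (upc (isConj_iff.2 ⟨n, rfl⟩) (h.c1g (h.W0 hx) c x2 e))
  have P0 : P ≤ M ⊓ 𝐍(A) := inf_le_left.trans h.S0
  have y1 := conj_mem_of_mem_normalizer nP yP
  have g2 : GG (τ t γ φ (μ * (n * y * n⁻¹) * μ⁻¹)) := h.GG_M μM (P0 y1) (by
    have := conj_mem_of_mem_normalizer (le_normalizer_commutator le_rfl le_rfl nP) zP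
    rw [hy, conj_mul_conj, h.τ_mul (P0 (commutator_le_left_of_le_normalizer le_normalizer this)) (P0 x1)]
    exact GG_mul (h.τ_der P0 this) g1)
  set y' := μ * (n * y * n⁻¹) * μ⁻¹ with hy'
  have P1 : cj[μ] P ≤ S ⊓ 𝐍(A) := le_inf ((cj_mono μ (le_sup_left.trans lT)).trans l2)
    (cj_le_iff_forall.2 fun q m => (h.cjM μM (P0 m)).2)
  have y0 := P1 (conj_mem_cj μ y1)
  have P2 : cj[μ] P = S ⊓ 𝐍(A) ⊓ 𝐂₁(y') := eq_of_le_of_card_ge (le_inf P1 (cjc μ (cz Py))) ((up y0 g2).trans (by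
    have a := h.lo2 (h.pS.to_le (inf_le_left.trans inf_le_left)) (h.pS.to_le (inf_le_left.trans inf_le_left))
      (inf_le_left.trans inf_le_right : S ⊓ A ⊓ 𝐂₁(x) ≤ A) (inf_le_left.trans inf_le_right : S ⊓ A ⊓ 𝐂₁(x) ≤ A)
    have b := cle (sup_le (sup_le C1 C2) WP)
    have d : W ≤ 𝐍(S ⊓ A ⊓ 𝐂₁(x) ⊔ cj[t] (S ⊓ A ⊓ 𝐂₁(x))) := by
      have := le_normalizer_inf (h.WS.trans h.nU1) ((WP.trans inf_le_right).trans le_normalizer)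
      exact le_normalizer_sup this (h.tW ▸ cj_normalizer t _ ▸ cj_mono t this)
    rw [sup_comm, cseq d (eq_bot_iff.2 fun q m => h.τ_w1 m.1 (by
      obtain ⟨u, a, v, b, rfl⟩ := h.memU.1 ((sup_le_sup inf_le_left
        (h.tU ▸ cj_mono t inf_le_left) : _ ≤ S ⊓ A ⊔ S ⊓ cj[t] A) (mem_inf.1 m).2)
      rw [h.τ_mul (h.A0 a.2) (h.B0 b.2), h.τ_A a.2, h.τ_B b.2, mul_one])), a.2] at b
    rw [card_cj]
    exact (Nat.mul_le_mul_left _ (Nat.mul_le_mul lg lg)).trans b))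
  obtain ⟨q, qQ, qP⟩ := SetLike.exists_of_lt (lt_inf_normalizer sQ.isPGroup lQ)
  have sS := l2 (conj_mem_cj μ (l1 (conj_mem_cj n qQ)))
  have sC := cjc μ (cjc n sQ.le) (conj_mem_cj μ (conj_mem_cj n qQ.1))
  have sN : μ * (n * q * n⁻¹) * μ⁻¹ ∉ 𝐍(A) := fun r => qP (conj_mem_cj_iff.1 (cn.ge (conj_mem_cj_iff.1 (P2.ge ⟨⟨sS, r⟩, sC⟩))))
  have tS := l2 (conj_mem_cj μ tT)
  have tN : μ * t * μ⁻¹ ∉ 𝐍(A) := fun r => h.tn (by simpa [mul_assoc] using (h.cjM (inv_mem μM) ⟨h.SM tS, r⟩).2)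
  have t2 : μ * t * μ⁻¹ * (μ * t * μ⁻¹) = 1 := by rw [← conj_mul_conj, h.tt, mul_one, mul_inv_cancel]
  have tP' : μ * t * μ⁻¹ ∈ 𝐍(cj[μ] P) := cj_normalizer μ P ▸ conj_mem_cj μ (cj_eq_self_iff.1 tP)
  generalize μ * (n * q * n⁻¹) * μ⁻¹ = s at sS sC sN
  obtain ⟨t', ht⟩ : ∃ t', μ * t * μ⁻¹ = t' := ⟨_, rfl⟩
  rw [ht] at tS tN t2 tP'
  have s0 : s * t' ∈ S ⊓ 𝐍(A) := ⟨mul_mem sS tS, h.swp_mul (h.SM sS) (h.SM tS) sN tN⟩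
  obtain ⟨b, bP, tb⟩ : ∃ b ∈ cj[μ] P, τ t γ φ b = τ t γ φ (s * t') := by
    obtain ⟨w, m, r, -⟩ := h.τ_wd s0
    exact (h.τ_M μM).elim (fun q => ⟨_, conj_mem_cj μ (WP m), (q _ (h.W0 m)).trans r⟩) fun q =>
      ⟨_, conj_mem_cj μ (WP (h.wt m)), by rw [q _ (h.W0 (h.wt m)), h.τ_t, Prod.swap_swap, r]⟩
  obtain ⟨u, a, v, d, r⟩ := h.τ_uv (mul_mem s0 (inv_mem (P1 bP))) (by
    rw [h.τ_mul (h.S0 s0) (inv_mem (h.S0 (P1 bP))), h.τ_inv (h.S0 (P1 bP)), tb, mul_inv_cancel])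
  have ti := inv_eq_of_mul_eq_one_right t2
  have k : b * (t' * y' * t'⁻¹) * b⁻¹ = t' * y' * t'⁻¹ := conj_eq_iff.2
    (mem_c1.1 (cjc t' (P2.le.trans inf_le_right) ((cj_eq_self tP').ge bP)))
  have k1 : u⁻¹ * y' * u = v * (t' * y' * t'⁻¹) * v⁻¹ := by
    have : s = u * v * b * t' := by rw [← r, inv_mul_cancel_right, mul_assoc, t2, mul_one]
    have e : s * y' * s⁻¹ = y' := conj_eq_iff.2 (mem_c1.1 sC)
    rw [← k]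
    conv_lhs => rw [← e, this]
    group
  have yb := h.cjM (h.SM tS) (h.S0 y0)
  have u2 : t' * u * t'⁻¹ ∈ 𝐂(A) := h.com' ((h.swp (h.SM tS) tN).1 ▸ conj_mem_cj t' a.2)
  have y3 : u⁻¹ * y' * u ∈ S := mul_mem (mul_mem (inv_mem a.1) y0.1) a.1
  have dC : t' * (u⁻¹ * y' * u) * t'⁻¹ * (u⁻¹ * y' * u)⁻¹ ∈ 𝐂(A) := by
    conv => enter [2, 2]; rw [k1]
    rw [show t' * (u⁻¹ * y' * u) * t'⁻¹ * (v * (t' * y' * t'⁻¹) * v⁻¹)⁻¹ = (t' * u * t'⁻¹)⁻¹ *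
      (t' * y' * t'⁻¹ * (t' * u * t'⁻¹ * v) * (t' * y' * t'⁻¹)⁻¹) * v⁻¹ by group]
    exact mul_mem (mul_mem (inv_mem u2) (h.nC yb (mul_mem u2 (h.com' d.2)))) (inv_mem (h.com' d.2))
  have d1 := h.triv (mul_mem (conj_mem_of_mem_normalizer (le_normalizer tS) y3) (inv_mem y3)) dC (by
    have := conj_mem_cj t' (inv_mem dC)
    rw [cj_centralizer, (h.swp (h.SM tS) tN).1] at this
    convert this using 1
    rw [ti]
    simp only [mul_inv_rev, inv_inv, ti, mul_assoc, t2, mul_one])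
  have e3 : (μ⁻¹ * u⁻¹ * μ * n) * y * (μ⁻¹ * u⁻¹ * μ * n)⁻¹ = (μ⁻¹ * u⁻¹) * y' * (μ⁻¹ * u⁻¹)⁻¹ := by rw [hy']; group
  have m3 := mul_mem (inv_mem μM) (inv_mem (h.AM a.2))
  refine upc (isConj_iff.2 ⟨_, e3⟩).symm (h.c1g (h.cjM m3 (h.S0 y0)) ?_ (by
    rw [← e3, ← conj_mul_conj, y2, mul_one, mul_inv_cancel]) (h.GG_M m3 (h.S0 y0) g2).1.1) R p hR
  have := congrArg (fun x => μ⁻¹ * x * μ * t) (mul_inv_eq_one.1 d1)
  simpa [← ht, mul_assoc] using this.symm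

/-- involutions of graph type on both sides -/
theorem c6 (hw : w ∈ S ⊓ 𝐍(A)) (w2 : w * w = 1) (g1 : γ w ≠ 1) (f1 : φ w = 1) (g2 : γ (t * w * t) ≠ 1)
    (f2 : φ (t * w * t) = 1) {R : Subgroup G} (p : IsPGroup 2 R) (hR : R ≤ 𝐂₁(w)) :
    Nat.card R ≤ 2 * Nat.card W * g ^ 2 := by
  obtain ⟨x, hx, c, x2, e, f, ξ, ξ', r, r', q⟩ := h.cls2 hw w2 ⟨⟨g1, f1⟩, g2, f2⟩
  refine upc q.symm ?_ R p hR
  rcases r with rfl | rfl <;> rcases r' with rfl | rfl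
  · simpa [h.tt] using h.c1g (h.W0 hx) c x2 e
  · simpa using h.mix hx c x2 e f
  · exact upc (isConj_iff.2 ⟨t, by rw [h.ti, h.tmul, h.tc, h.tfix c, mul_one, h.tt, mul_one]⟩) (h.mix hx c x2 e f)
  have q := isConj_iff.1 q
  have m := h.cm12 h.zA.2 (h.t_mem h.zA.2)
  refine h.c1g (mul_mem (mul_mem (h.A0 h.zA.2) (h.B0 (h.t_mem h.zA.2))) (h.W0 hx)) ?_ ?_
    ((h.typ h.zA.2 (h.t_mem h.zA.2) (h.W0 hx)).1 ▸ e)
  · exact (conj_eq_iff.1 (by rw [h.ti, h.tmul, h.tmul ξ', h.tc, h.tfix c, ← m])).symm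
  · obtain ⟨q, r⟩ := q
    rw [← r, ← conj_mul_conj, w2, mul_one, mul_inv_cancel]

/-- no pure graph automorphism in `E` -/
theorem c5w (hw : w ∈ W) (wE : w ∈ E) (e : γ w ≠ 1) (f : φ w = 1) (e' : γ (t * w * t) = 1) (f' : φ (t * w * t) = 1) :
    False := by
  classical
  obtain ⟨n1, n2, n3, n4⟩ := h.nG ⟨w, hw, e⟩
  have mW : 0 < Nat.card W := Nat.card_pos
  have g0 : 0 < g := Nat.pos_of_ne_zero (by rintro rfl; omega)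
  have w0 := h.W0 hw
  have w2 : w * w = 1 := h.τ_w1 (mul_mem hw hw) (by rw [h.τ_mul w0 w0]; simp [τ, f, e', f', h.Γ2])
  have tE : ∀ {x}, x ∈ E → t * x * t ∈ E := fun {x} m => by simpa only [h.ti] using h.en.conj_mem x m t
  let ν : G → Γ := fun s => γ s * γ (t * s * t)
  have νm : ∀ {x y}, x ∈ M ⊓ 𝐍(A) → y ∈ M ⊓ 𝐍(A) → ν (x * y) = ν x * ν y := fun a b => by
    simp only [ν, h.γm _ a _ b, h.γm' a b, mul_mul_mul_comm]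
  have νt : ∀ x, ν (t * x * t) = ν x := fun x => by simp only [ν, h.tc, mul_comm]
  obtain ⟨c, cE, vT, νv, cT, -⟩ := tl h.ep h.sylE (fun x y _ _ => h.Γ1 x y) (fun s => if s ∈ 𝐍(A) then ν s else ν (s * t))
    (fun x a y b => by
      have a := h.SM a.1
      have b := h.SM b.1
      by_cases p : x ∈ 𝐍(A) <;> by_cases q : y ∈ 𝐍(A)
      · rw [if_pos p, if_pos q, if_pos (mul_mem p q), νm ⟨a, p⟩ ⟨b, q⟩]
      · rw [if_pos p, if_neg q, if_neg fun r => q ((mul_mem_cancel_left p).1 r), mul_assoc, νm ⟨a, p⟩ (h.mt b q)]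
      · rw [if_neg p, if_pos q, if_neg fun r => p ((mul_mem_cancel_right q).1 r), ← νt y, ← νm (h.mt a p) (h.tj ⟨b, q⟩)]
        simp only [mul_assoc, ← mul_assoc t t, h.tt, one_mul]
      · rw [if_neg p, if_neg q, if_pos (h.swp_mul a b p q), ← νt (y * t), ← νm (h.mt a p) (h.tj (h.mt b q))]
        simp only [mul_assoc, ← mul_assoc t t, h.tt, one_mul, mul_one])
    (x := w) ⟨(h.WS hw).1, wE⟩ (by simpa [(mem_inf.1 w0).2, ν, e'] using e) fun y _ o => by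
      rw [Invol.orderOf_eq_two_iff.2 ⟨w2, fun r => e (r ▸ h.γ1)⟩] at o
      simp [orderOf_eq_one_iff.1 (show orderOf y = 1 by have := orderOf_pos y; omega), ν, h.tt, h.γ1]
  have wC : w ∈ 𝐂(cj[t] A) := h.c12.2 (h.cen _ (h.wt hw) e' f')
  have lg := h.loG w hw e f
  have pC : ∀ {X}, IsPGroup 2 ↥(S ⊓ X) := h.pS.to_le inf_le_left
  have pD : IsPGroup 2 ↥(S ⊓ A ⊓ 𝐂₁(w)) := pC.to_le inf_le_left
  have lD : S ⊓ A ⊓ 𝐂₁(w) ≤ A := inf_le_left.trans inf_le_right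
  have D1 : S ⊓ A ⊓ 𝐂₁(w) ≤ S ⊓ E ⊓ 𝐂₁(w) := inf_le_inf_right _ (inf_le_inf_left _ h.AE)
  have D2 : cj[t] (S ⊓ A) ≤ S ⊓ E ⊓ 𝐂₁(w) := h.tU ▸ le_inf (inf_le_inf_left _ h.BE) fun q m => mem_c1.2 (wC q m.2)
  have big : ∀ {x R}, R ≤ S ⊓ E ⊓ 𝐂₁(w) → R ≤ 𝐂₁(x) → Nat.card R ≤ Nat.card ↥(S ⊓ 𝐂₁(c * x * c⁻¹)) := fun {_ R} a b =>
    card_cj c R ▸ cle (le_inf ((cj_mono c a).trans (cT.trans inf_le_left)) (cjc c b))
  have b1 := big (sup_le D1 D2) ((sup_le D1 D2).trans inf_le_right)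
  rw [(h.lo2 pD pC lD inf_le_right).2] at b1
  replace b1 := (Nat.mul_le_mul_right _ lg).trans b1
  have uN : ∀ s, Nat.card ↥(S ⊓ A ⊓ 𝐂₁(s)) ≤ Nat.card ↥(S ⊓ A) := fun _ => cle inf_le_left
  have vN : c * w * c⁻¹ ∈ 𝐍(A) := by
    by_contra r
    have := b1.trans (h.upSw vT.1 r)
    have : g ≤ 2 * Nat.card W := by nlinarith
    nlinarith
  have v0 : c * w * c⁻¹ ∈ S ⊓ 𝐍(A) := ⟨vT.1, vN⟩
  have b2 := b1.trans (h.upS v0)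
  have tv : τ t γ φ (c * w * c⁻¹) = 1 := by
    rw [if_pos vN] at νv
    have r : γ (c * w * c⁻¹) = 1 := by
      by_contra r
      have := Nat.mul_le_mul (h.upG _ v0 r) (h.upG _ (h.tjS v0) fun q => r (by simpa [ν, q] using νv))
      nlinarith
    refine τ_one.2 ⟨⟨r, by_contra fun q => ?_⟩, by simpa [ν, r] using νv, by_contra fun q => ?_⟩
    · have := Nat.mul_le_mul (h.upF _ v0 q) (uN (t * (c * w * c⁻¹) * t))
      nlinarith [(n4 (h.exF v0 q)).1]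
    · have := Nat.mul_le_mul (uN (c * w * c⁻¹)) (h.upF _ (h.tjS v0) q)
      nlinarith [(n4 (h.exF (h.tjS v0) q)).1]
  have dg : ∀ {x}, x ∈ W → x * (t * x * t) * t = t * (x * (t * x * t)) := fun {x} m => (conj_eq_iff.1 (by
    rw [h.ti, h.tmul, h.tc, h.wcomm m (h.wt m)])).symm
  have sq : ∀ {x}, x ∈ W → x * x = 1 → x * (t * x * t) * (x * (t * x * t)) = 1 := fun {x} m q => by
    rw [mul_assoc, ← mul_assoc _ x, ← h.wcomm m (h.wt m), mul_assoc x, h.tsq q, mul_one, q]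
  have WT : ∀ {x}, x ∈ W → x ∈ E → c * x * c⁻¹ ∈ S ⊓ E := fun m q =>
    cT (conj_mem_cj c ⟨⟨(h.WS m).1, q⟩, mem_c1.2 (h.wcomm m hw)⟩)
  have sc : ∀ {x : G}, x * x = 1 → c * x * c⁻¹ * (c * x * c⁻¹) = 1 := fun q => by
    rw [← conj_mul_conj, q, mul_one, mul_inv_cancel]
  set x := w * (t * w * t) with hx
  have xW : x ∈ W := mul_mem hw (h.wt hw)
  have xE : x ∈ E := mul_mem wE (tE wE)
  have x2 : x * x = 1 := sq hw w2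
  have xT := WT xW xE
  have D3 : S ⊓ A ⊓ 𝐂₁(w) ≤ 𝐂₁(x) := fun q m => mem_c1.2 (by
    rw [hx, ← mul_assoc, mem_c1.1 m.2, mul_assoc, h.c12.1 wC q m.1.2, ← mul_assoc])
  have xt : x * t = t * x := dg hw
  have b3 := big (sup_le D1 ((cj_mono t (inf_le_left (b := 𝐂₁(w)))).trans D2))
    (sup_le D3 (by simpa only [h.ti, h.tfix xt] using cjc t D3))
  rw [(h.lo2 pD pD lD lD).2] at b3
  replace b3 := (Nat.mul_le_mul lg lg).trans b3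
  have xN : c * x * c⁻¹ ∈ 𝐍(A) := by
    by_contra r
    nlinarith [b3.trans (h.upSw xT.1 r)]
  have x0 : c * x * c⁻¹ ∈ S ⊓ 𝐍(A) := ⟨xT.1, xN⟩
  have one : φ (c * x * c⁻¹) * φ (t * (c * x * c⁻¹) * t) ≠ 1 → φ (c * x * c⁻¹) = 1 ∧ φ (t * (c * x * c⁻¹) * t) = 1 := fun r => by
    obtain ⟨e, eW, eE, q⟩ := h.τ_wE x0 xT.2
    have e2 := sq eW (h.τ_sq eW (h.S0 x0) (sc x2) q)
    have oW := mul_mem eW (h.wt eW)
    have oE := mul_mem eE (tE eE)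
    have fo : φ (e * (t * e * t)) ≠ 1 := by rwa [h.φm _ (h.W0 eW) _ (h.W0 (h.wt eW)), (τ_iff.1 q).1.2, (τ_iff.1 q).2.2]
    have ot := dg eW
    generalize e * (t * e * t) = o at e2 oW oE fo ot
    have fx : φ x = 1 := by rw [hx, h.φm _ w0 _ (h.tj w0), f, f', mul_one]
    have o2 : o * x * (o * x) = 1 := by rw [Commute.mul_mul_mul_comm (h.wcomm xW oW), e2, x2, mul_one]
    obtain ⟨a1, a2, a3⟩ := h.f2 oW ot e2 fo (WT oW oE).1 (isConj_iff.2 ⟨c, rfl⟩)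
    obtain ⟨c1, c2, c3⟩ := h.f2 (mul_mem oW xW) (Commute.mul_left ot xt) o2 (by
      rwa [h.φm _ (h.W0 oW) _ (h.W0 xW), fx, mul_one]) (WT (mul_mem oW xW) (mul_mem oE xE)).1 (isConj_iff.2 ⟨c, rfl⟩)
    have m1 : c * o * c⁻¹ ∈ M ⊓ 𝐍(A) := ⟨h.SM (WT oW oE).1, a1⟩
    have m2 : c * (o * x) * c⁻¹ ∈ M ⊓ 𝐍(A) := ⟨h.SM (WT (mul_mem oW xW) (mul_mem oE xE)).1, c1⟩
    have p1 := h.φeq m2 m1 (sc o2) (sc e2) c2 a2
    have p2 := h.φeq (h.tj m2) (h.tj m1) (h.tsq (sc o2)) (h.tsq (sc e2)) c3 a3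
    rw [conj_mul_conj, h.φm _ m1 _ (h.S0 x0), mul_eq_left] at p1
    rw [conj_mul_conj, h.φm' m1 (h.S0 x0), mul_eq_left] at p2
    exact ⟨p1, p2⟩
  have ff : φ (c * x * c⁻¹) = 1 ∧ φ (t * (c * x * c⁻¹) * t) = 1 := by
    by_cases p : φ (c * x * c⁻¹) = 1 <;> by_cases q : φ (t * (c * x * c⁻¹) * t) = 1
    · exact ⟨p, q⟩
    · exact one (by rwa [p, one_mul])
    · exact one (by rwa [q, mul_one])
    have := b3.trans ((h.upS x0).trans (Nat.mul_le_mul_left _ (Nat.mul_le_mul (h.upF _ x0 p) (h.upF _ (h.tjS x0) q))))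
    have := (n4 (h.exF x0 p)).1
    have : a ≤ g := by nlinarith
    nlinarith
  have gx := h.gg ⟨w, hw, e⟩ x0 (sc x2) ff.1 ff.2 (upc (isConj_iff.2 ⟨c, rfl⟩) (h.c1g (h.W0 xW) xt x2 (by
    rwa [hx, h.γm _ w0 _ (h.tj w0), e', mul_one])))
  have k : c * (t * w * t) * c⁻¹ = c * w * c⁻¹ * (c * x * c⁻¹) := by
    rw [← conj_mul_conj, hx, ← mul_assoc w w, w2, one_mul]
  have gy := GG_mul tv gx
  rw [← h.τ_mul (h.S0 v0) (h.S0 x0), ← k] at gy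
  have l := h.lo2 pC pD (inf_le_right (a := S)) lD
  have := h.c6 (k ▸ mul_mem v0 x0) (sc (h.tsq w2)) gy.1.1 gy.1.2 gy.2.1 gy.2.2 (isPGroup_cj c l.1) (cjc c (sup_le
    (fun q m => mem_c1.2 (h.c12.1 wC q m.2)) (by simpa only [h.ti] using cjc t inf_le_right)))
  rw [card_cj, l.2] at this
  nlinarith [Nat.mul_le_mul_left (Nat.card ↥(S ⊓ A)) lg]

theorem c5 (hs : s ∈ S ⊓ 𝐍(A) ⊓ E) (f1 : φ s = 1) (f2 : φ (t * s * t) = 1) : γ s = γ (t * s * t) := by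
  obtain ⟨w, hw, wE, q⟩ := h.τ_wE hs.1 hs.2
  obtain ⟨⟨a, b⟩, c, d⟩ := τ_iff.1 q
  by_cases e : γ s = 1 <;> by_cases e' : γ (t * s * t) = 1
  · exact e.trans e'.symm
  · exact (h.c5w (h.wt hw) (by simpa only [h.ti] using h.en.conj_mem w wE t) (c ▸ e') (d.trans f2)
      ((h.tc w).symm ▸ a.trans e) ((h.tc w).symm ▸ b.trans f1)).elim
  · exact (h.c5w hw wE (a ▸ e) (b.trans f1) (c.trans e') (d.trans f2)).elim
  exact h.Γ1 _ _ e e'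

end OK
end CF.Ld
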