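import Cfsg.Agent.Ld.O3b

/-! Split endgame without purity: the Sylow subgroup of `E` is a product, and the final contradiction. -/

set_option autoImplicit false
set_option linter.unusedSectionVars false

namespace CF.Ld

open Cfsg Subgroup CF.Loc CF.LX
open scoped commutatorElement

variable {G : Type*} [Group G] [Finite G] {Γ Φ : Type*} [CommGroup Γ] [CommGroup Φ] {E M A S W R : Subgroup G}
  {t z s w x y m u v d b : G} {γ : G → Γ} {φ : G → Φ} {a g l k : ℕ}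

namespace OK

variable (h : OK E M A S W t z γ φ a g l k)
include h

/-- swaps of order four -/
theorem o3y (hw : w ∈ W) (yE : w * t ∈ E) (d2 : w * (t * w * t) * (w * (t * w * t)) = 1)
    (ns : ∀ s ∈ S ⊓ E, s * s = 1 → s ∈ 𝐍(A)) : ∃ b : G, b * (w * t) * b⁻¹ ∈ S ⊓ E ∧ b * (w * t) * b⁻¹ ∈ 𝐍(A) ∧
      cj[b] (S ⊓ E ⊓ 𝐂₁(w * t)) ≤ S ⊓ E ∧ (φ (b * (w * t) * b⁻¹) * φ (b * (w * t) * b⁻¹) = 1 →
        φ (t * (b * (w * t) * b⁻¹) * t) * φ (t * (b * (w * t) * b⁻¹) * t) = 1 → γ (w * (t * w * t)) = 1) := by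
  have e : w * t * (w * t) = w * (t * w * t) := by group
  obtain ⟨b, b1, b2, b3⟩ := h.o3eps ⟨(h.o3n hw).1, yE⟩ (h.o3n hw).2 fun s hs c =>
    ns s hs (O3.mn4 h.sylE.isPGroup (e ▸ d2) hs c)
  have v0 : b * (w * t) * b⁻¹ ∈ M ⊓ 𝐍(A) := ⟨h.SM b1.1, b2⟩
  refine ⟨b, b1, b2, b3, fun c1 c2 => by_contra fun n => h.o3gam (mul_mem hw (h.wt hw)) (h.o3d hw) d2 n
    (mul_mem ⟨b1.1, b2⟩ ⟨b1.1, b2⟩) (by rw [conj_mul, e]; exact (o3ic b _).symm) ?_ ?_ ?_⟩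
  · rw [h.φm _ v0 _ v0, c1]
  · rw [h.φm' v0 v0, c2]
  · rw [h.γm _ v0 _ v0, h.Γ2]

section

variable (hx : x ∈ W) (xE : x ∈ E) (xt : x * t = t * x) (x2 : x * x = 1) (xf : φ x ≠ 1)
include hx xE xt x2 xf

theorem o3th : ∃ c ∈ W ⊓ E, (∀ i : ℤ, φ (c ^ i) = φ c ^ i ∧ φ (t * c ^ i * t) = φ (t * c * t) ^ i) ∧
    (∃ n, φ c ^ 2 ^ n = 1) ∧ ∀ w ∈ W ⊓ E, ∃ i : ℤ, φ w = φ c ^ i ∧ φ (t * w * t) = φ (t * c * t) ^ i := by
  let F : ↥(W ⊓ E) →* Φ := MonoidHom.mk' (fun w => φ w) fun a b => h.φm _ (h.W0 a.2.1) _ (h.W0 b.2.1)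
  let F' : ↥(W ⊓ E) →* Φ := MonoidHom.mk' (fun w => φ (t * w * t)) fun a b => h.φm' (h.W0 a.2.1) (h.W0 b.2.1)
  have p : IsPGroup 2 ↥(W ⊓ E) := h.pS.to_le (inf_le_left.trans (h.WS.trans inf_le_left))
  have k : ∀ w, F w = 1 → F' w = 1 := fun w c => by_contra fun n => by
    obtain ⟨r, e⟩ := p w
    obtain ⟨j, j1, j2⟩ := O3.invp r (by rw [← map_pow, e, map_one]) n
    rw [← map_pow] at j1 j2
    have j3 : F (w ^ j) = 1 := by rw [map_pow, c, one_pow]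
    generalize w ^ j = w at j1 j2 j3
    have w0 := h.WS w.2.1
    exact j1 ((h.o3a1' hx xE xt x2 xf ⟨w0.1, w.2.2⟩ w0.2 (h.o3sq w.2.1 (by rw [show φ w = 1 from j3, mul_one]) j2)).symm.trans
      j3)
  have := h.Φc
  obtain ⟨c, e⟩ := (Subgroup.isCyclic_iff_exists_zpowers_eq_top F.range).1 inferInstance
  obtain ⟨c, rfl⟩ : c ∈ F.range := e ▸ mem_zpowers c
  refine ⟨c, c.2, fun i => ⟨map_zpow F c i, map_zpow F' c i⟩, (p c).imp fun r e => ?_, fun w hw => ?_⟩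
  · exact (map_pow F c _).symm.trans (by rw [e, map_one])
  obtain ⟨i, hi⟩ := mem_zpowers_iff.1 (e.ge ⟨⟨w, hw⟩, rfl⟩)
  have := k (⟨w, hw⟩ * (c ^ i)⁻¹) (by rw [map_mul, map_inv, map_zpow, hi, mul_inv_cancel])
  rw [map_mul, map_inv, map_zpow, mul_inv_eq_one] at this
  exact ⟨i, hi.symm, this⟩

theorem o3a4 (hw : w ∈ W) (yE : w * t ∈ E) (d2 : w * (t * w * t) * (w * (t * w * t)) = 1) : False := by
  have ns := fun s hs => h.o3a2 hx xE xt x2 xf (s := s) hs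
  obtain ⟨b, b1, b2, b3, b4⟩ := h.o3y hw yE d2 ns
  have e : w * t * (w * t) = w * (t * w * t) := by group
  obtain ⟨yS, yn⟩ := h.o3n hw
  have hd := mul_mem hw (h.wt hw)
  have dt := h.o3d hw
  generalize w * (t * w * t) = d at *
  generalize w * t = y at *
  have v0 : b * y * b⁻¹ ∈ M ⊓ 𝐍(A) := ⟨h.SM b1.1, b2⟩
  have q : b * d * b⁻¹ = b * y * b⁻¹ * (b * y * b⁻¹) := by rw [conj_mul, e]
  have dT : b * d * b⁻¹ ∈ S ⊓ E := q ▸ mul_mem b1 b1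
  have dn : b * d * b⁻¹ ∈ 𝐍(A) := q ▸ mul_mem b2 b2
  have f1 : φ (b * d * b⁻¹) = φ (b * y * b⁻¹) * φ (b * y * b⁻¹) := by rw [q, h.φm _ v0 _ v0]
  have f2 : φ (t * (b * d * b⁻¹) * t) = φ (t * (b * y * b⁻¹) * t) * φ (t * (b * y * b⁻¹) * t) := by rw [q, h.φm' v0 v0]
  have f3 := h.o3a1' hx xE xt x2 xf dT dn (o3cj b d2)
  by_cases f : φ (b * d * b⁻¹) = 1
  · have g1 := b4 (f1 ▸ f) (f2 ▸ f3 ▸ f)
    have g2 : φ d = 1 := by_contra fun c => (h.f2 hd dt d2 c dT.1 (o3ic b _)).2.1 f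
    exact yn (ns y ⟨yS, yE⟩ (e.trans (h.w1 hd g1 g2 (by rwa [h.tfix dt]) (by rwa [h.tfix dt]))))
  obtain ⟨w', hw', c1, -, c2, c3, c4⟩ := h.o3ff hx xE xt x2 xf dT dn (o3cj b d2) f (f3 ▸ f)
  obtain ⟨g1, g2⟩ := h.dt (h.W0 hd) dt (h.W0 hw') c1 ((o3ic b _).trans c2)
  rw [← c3, q, h.γm _ v0 _ v0, h.Γ2] at g1
  rw [← c4] at g2
  obtain ⟨s, hs, -, -, -, -, c5, -⟩ := h.o3w b1 b2
  have dq := h.φ2 (h.W0 hd) d2
  have yA := h.swp (h.SM yS) yn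
  have m2 : ∀ u ∈ S ⊓ A, y * u * y⁻¹ ∈ S ⊓ cj[t] A := fun u hu =>
    ⟨S.mul_mem (S.mul_mem yS hu.1) (S.inv_mem yS), yA.1 ▸ conj_mem_cj y hu.2⟩
  let ψ : ↥(S ⊓ A ⊓ 𝐂₁(d)) →* G := MonoidHom.mk' (fun u => b * (u * (y * u * y⁻¹)) * b⁻¹) fun u v => by
    rw [conj_mul, mul_assoc u.1, ← mul_assoc _ v.1, ← h.cm12 v.2.1.2 (m2 _ u.2.1).2, Subgroup.coe_mul]; group
  have n1 := h.upF2 _ ⟨b1.1, b2⟩ (f1 ▸ f)
  have n2 := h.upF2 _ (h.tjS ⟨b1.1, b2⟩) (f2 ▸ f3 ▸ f)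
  have mk := h.o3mono (h.mo2 d hd g1 (g2 ▸ f) dq ⟨s, hs, by rw [← c5, ← f1, g2]⟩) (ψ := ψ)
    ((injective_iff_map_eq_one ψ).2 fun u c => Subtype.ext (h.int u.2.1.1 u.2.1.2
      (eq_inv_of_mul_eq_one_left (conj_eq_one_iff.1 c) ▸ inv_mem (m2 _ u.2.1).2))) ⟨b1.1, b2⟩
    (fun u => by
      have : u.1 * (y * u * y⁻¹) ∈ S ⊓ E ⊓ 𝐂₁(y) := ⟨⟨mul_mem u.2.1.1 (m2 _ u.2.1).1,
        mul_mem (h.AE u.2.1.2) (h.BE (m2 _ u.2.1).2)⟩, c1m.2 (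
          calc _ = u.1 * (y * y) * y⁻¹ * u := by group
            _ = y * (y * u * y⁻¹ * u) := by rw [e, c1m.1 u.2.2, ← mul_assoc, ← mul_assoc, ← mul_assoc y, e]
            _ = _ := by rw [h.cm12 u.2.1.2 (m2 _ u.2.1).2])⟩
      exact ⟨(b3 (conj_mem_cj b this)).1, cj_centralizer_singleton b y ▸ conj_mem_cj b this.2⟩)
    (Nat.le_sqrt'.2 n1) (Nat.le_sqrt'.2 n2)
  obtain ⟨-, -, a2, -⟩ := h.nF ⟨x, hx, xf⟩
  have a3 := Nat.pow_le_pow_left ((h.loF d hd (g2 ▸ f) dq).trans mk) 2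
  have := Nat.sqrt_le' a
  rw [← mul_assoc, mul_pow] at a3
  have a0 : 0 < a := a2.trans_le' (Nat.zero_le _)
  nlinarith

theorem o3A : False := by
  refine h.o3a3 hx xE xt x2 xf fun b hb s hs n => by_contra fun c => ?_
  have s0 : s ∈ M ⊓ 𝐍(A) := ⟨h.SM hs.1, n⟩
  have bn : b ∉ 𝐍(A) := fun d => c (h.φc ⟨h.SM hb.1, d⟩ s0)
  rw [show b * s * b⁻¹ = b * t * (t * s * t) * (b * t)⁻¹ by
      conv_lhs => rw [← h.tc s]
      simp only [mul_inv_rev, h.ti, mul_assoc], h.φc (h.mt (h.SM hb.1) bn) (h.tj s0)] at c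
  obtain ⟨r, hr, cp, ⟨n, cn⟩, k⟩ := h.o3th hx xE xt x2 xf
  obtain ⟨j, j1, j2⟩ := k _ ⟨h.wt hr.1, h.o3tE hr.2⟩
  obtain ⟨w, hw, yE, -⟩ := h.o3s hb bn
  have e : ∀ w : G, w * t * (w * t) = w * (t * w * t) := fun w => by group
  obtain ⟨i, i1, i2⟩ := k _ ⟨mul_mem hw (h.wt hw), e w ▸ mul_mem yE yE⟩
  rw [h.tfix (h.o3d hw), i1, j1, ← zpow_mul, mul_comm] at i2
  rw [h.tc, j1, ← zpow_mul] at j2
  obtain ⟨q, hq⟩ := O3.cyc cn j2.symm (fun d => by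
    obtain ⟨v, hv, vE, -, -, -, a1, -, a2⟩ := h.o3w hs ‹_›
    obtain ⟨i, a3, a4⟩ := k v ⟨hv, vE⟩
    exact c (by rw [a1, a2, a3, a4, j1, d])) i2.symm
  have hv := zpow_mem hr q
  have hu := mul_mem hv.1 hw
  have w0 := h.W0 hw
  have v0 := h.W0 hv.1
  have f : φ (r ^ q * w * (t * (r ^ q * w) * t)) = φ r ^ (i + q * (1 + j)) := by
    rw [h.φm _ (h.W0 hu) _ (h.W0 (h.wt hu)), h.φm _ v0 _ w0, h.φm' v0 w0, mul_mul_mul_comm, ← h.φm _ w0 _ (h.tj w0), i1,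
      (cp q).1, (cp q).2, j1, ← zpow_mul, ← zpow_add, ← zpow_add]
    congr 1; ring
  exact h.o3a4 hx xE xt x2 xf hu (mul_assoc (r ^ q) w t ▸ mul_mem hv.2 yE)
    (h.o3sq (mul_mem hu (h.wt hu)) (f ▸ hq) (by rw [h.tfix (h.o3d hu), f, hq]))

end

theorem o3B (hs : s ∈ S ⊓ E) : s ∈ (S ⊓ A) ⊔ (S ⊓ cj[t] A) := by
  have B : ∀ x ∈ W, x ∈ E → x * t = t * x → x * x = 1 → φ x = 1 := fun x hx xE xt x2 =>
    by_contra (h.o3A hx xE xt x2)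
  have b1 : ∀ w ∈ W, w ∈ E → w * w = 1 → φ (t * w * t) = φ w := fun w hw wE w2 => by
    have := B _ (mul_mem hw (h.wt hw)) (mul_mem wE (h.o3tE wE)) (h.o3d hw) (h.o3d2 hw w2)
    rw [h.φm _ (h.W0 hw) _ (h.W0 (h.wt hw)), ← h.φ2 (h.W0 hw) w2] at this
    exact mul_left_cancel this
  have b2 : ∀ w ∈ W, w ∈ E → w * w = 1 := fun w hw wE => by_contra fun n => by
    obtain ⟨r, e⟩ := isPGroup_iff_forall.1 h.pS _ (h.WS (mul_mem hw hw)).1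
    obtain ⟨j, j1, j2⟩ := O3.invp r e n
    rw [(Commute.refl w).mul_pow] at j1 j2
    have hv := pow_mem hw j
    have vE := pow_mem wE j
    generalize w ^ j = v at *
    have v0 := h.W0 hv
    have g1 : γ (v * v) = 1 := by rw [h.γm _ v0 _ v0, h.Γ2]
    have g2 : γ (t * (v * v) * t) = 1 := by rw [h.γm' v0 v0, h.Γ2]
    have f := b1 _ (mul_mem hv hv) (mul_mem vE vE) j2
    have f' := B _ (mul_mem hv hv) (mul_mem vE vE) (h.diag (mul_mem hv hv) (g2.trans g1.symm) f) j2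
    exact j1 (h.w1 (mul_mem hv hv) g1 f' g2 (f.trans f'))
  have b3 : ∀ s ∈ S ⊓ E, s ∈ 𝐍(A) → φ s * φ s = 1 ∧ φ (t * s * t) = φ s := fun s hs n => by
    obtain ⟨w, hw, wE, -, -, -, a1, -, a2⟩ := h.o3w hs n
    exact ⟨a1 ▸ h.φ2 (h.W0 hw) (b2 w hw wE), by rw [a1, a2, b1 w hw wE (b2 w hw wE)]⟩
  have b4 : ∀ x ∈ W, x ∈ E → x * t = t * x → γ x = 1 → x = 1 := fun x hx xE xt c =>
    have f := B x hx xE xt (b2 x hx xE)
    h.w1 hx c f (by rwa [h.tfix xt]) (by rwa [h.tfix xt])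
  have b5 : ∀ w ∈ W, w * t ∈ E → γ (w * (t * w * t)) ≠ 1 := fun w hw yE c => by
    obtain ⟨a1, a2⟩ := h.o3c hw yE
    have a3 := mul_mem hw (inv_mem (h.wt hw))
    have w0 := h.W0 hw
    have g1 : γ (w * (t * w * t)⁻¹) = 1 := by
      rwa [h.γm _ w0 _ (inv_mem (h.tj w0)), h.γi (h.tj w0), inv_eq_of_mul_eq_one_right (h.Γ2 _), ← h.γm _ w0 _ (h.tj w0)]
    refine a2 (b4 _ a3 a1 (h.diag a3 ?_ (b1 _ a3 a1 (b2 _ a3 a1))) g1)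
    rw [h.tmul, h.tinv, h.tc, ← inv_inv (t * w * t), ← mul_inv_rev, h.γi (h.W0 a3), inv_inv, g1, inv_one]
  have b6 : S ⊓ E ≤ 𝐍(A) := fun s hs => by_contra fun n => by
    obtain ⟨w, hw, yE, -⟩ := h.o3s hs n
    obtain ⟨b, a1, a2, -, a3⟩ := h.o3y hw yE (b2 _ (mul_mem hw (h.wt hw))
      ((by group : w * t * (w * t) = w * (t * w * t)) ▸ mul_mem yE yE)) fun s hs s2 => by_contra fun n =>
        have ⟨w, hw, yE, c⟩ := h.o3s hs n; b5 w hw yE (by rw [c s2, h.γ1])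
    have := b3 _ a1 a2
    exact b5 w hw yE (a3 this.1 (this.2 ▸ this.1))
  have b7 : ∀ x ∈ W, x ∈ E → x * t = t * x → x = 1 := fun x hx xE xt => b4 x hx xE xt (by_contra fun c => by
    have n3 : ∀ x ∈ S ⊓ E, ∀ y ∈ S ⊓ E, γ (x * y) = γ x * γ y := fun x c y d =>
      h.γm _ ⟨h.SM c.1, b6 c⟩ _ ⟨h.SM d.1, b6 d⟩
    have x2 := b2 x hx xE
    obtain ⟨b, -, a1, a2, a3, -⟩ := tl h.ep h.sylE (fun x y _ _ => h.Γ1 x y) γ n3 ⟨(h.WS hx).1, xE⟩ c (O3.mn2 n3 x2)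
    have a4 := (b3 _ a1 (b6 a1)).2
    by_cases f : φ (b * x * b⁻¹) = 1
    · exact h.o3gam hx xt x2 c ⟨a1.1, b6 a1⟩ (o3ic b x).symm f (a4.trans f) a2
    · have a5 := (h.o3tr a3).trans (h.o3FF ⟨a1.1, b6 a1⟩ f (a4 ▸ f))
      have a6 := h.loG x hx c (B x hx xE xt x2)
      rw [h.tfix xt, mul_right_comm] at a5
      exact ((Nat.mul_le_mul a6 a6).trans a5).not_gt (h.nG ⟨x, hx, c⟩).2.1)
  obtain ⟨w, hw, wE, -, a, -⟩ := h.o3w hs (b6 hs)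
  have := b7 _ (mul_mem hw (h.wt hw)) (mul_mem wE (h.o3tE wE)) (h.o3d hw)
  rw [← b2 w hw wE, mul_right_inj] at this
  exact a (b7 w hw wE ((congrArg (· * t) this).symm.trans (by rw [mul_assoc, h.tt, mul_one])))

theorem main : S ⊓ E = (S ⊓ A) ⊔ (S ⊓ cj[t] A) :=
  le_antisymm (fun _ => h.o3B) (sup_le (inf_le_inf_left _ h.AE) (inf_le_inf_left _ h.BE))

theorem false (s : IsSimpleGroup E) (n : ¬ IsMulCommutative E) (pa : ⁅A, A⁆ = A) (i : Idc (S ⊓ A)) : False := by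
  have l1 : S ⊓ A ≤ E := inf_le_right.trans h.AE
  have l2 : S ⊓ cj[t] A ≤ E := inf_le_right.trans h.BE
  have k : ∀ X Y : Subgroup G, X ≤ E → X ≤ 𝐂(Y) → ⁅X, X⁆ = X →
      (S ⊓ X).subgroupOf E ≤ ⁅𝐂((S ⊓ Y).subgroupOf E), 𝐂((S ⊓ Y).subgroupOf E)⁆ := fun X Y l c p => by
    have : X.subgroupOf E ≤ 𝐂((S ⊓ Y).subgroupOf E) := fun x hx => mem_centralizer_iff'.2 fun y hy =>
      Subtype.ext (mem_centralizer_iff'.1 (c hx) _ hy.2)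
    refine le_trans (fun x hx => (mem_map_iff_mem E.subtype_injective).1 ?_) (commutator_mono this this)
    rw [map_commutator, map_subgroupOf_eq_of_le l, p]
    exact hx.2
  refine pf_simple (S := (S ⊓ E).subgroupOf E) (U := (S ⊓ A).subgroupOf E) (V := (S ⊓ cj[t] A).subgroupOf E)
    (h.sylE.coe_toSylow ▸ isSyl_top h.sylE.toSylow) (by rw [h.main, subgroupOf_sup l1 l2])
    (fun x hx => mem_centralizer_iff'.2 fun y hy => Subtype.ext (h.cm12 hx.2 hy.2).symm)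
    (eq_bot_iff.2 fun x hx => mem_bot.2 (Subtype.ext (h.int hx.1.1 hx.1.2 hx.2.2)))
    ((Nat.card_congr (subgroupOfEquivOfLe l1).toEquiv).trans
      (h.card2.symm.trans (Nat.card_congr (subgroupOfEquivOfLe l2).toEquiv).symm)) (k _ _ h.AE h.com pa)
    (k _ _ h.BE h.com' (by rw [← cj_commutator, pa]))
    (O3.idc E.subtype_injective (by rwa [map_subgroupOf_eq_of_le l1]))
    (O3.idc E.subtype_injective ?_) n
  rw [map_subgroupOf_eq_of_le l2, ← h.tU]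
  exact O3.idc (f := (MulAut.conj t).toMonoidHom) (MulAut.conj t).injective (by
    rwa [show (cj[t] (S ⊓ A)).map _ = cj[t] (cj[t] (S ⊓ A)) from rfl, h.cjtt])

end OK

end CF.Ld
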