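import Cfsg.Agent.Ld.O3a
import Cfsg.Agent.Ld.O2

/-! Split endgame without purity: a diagonal field involution in `E` is impossible. -/

set_option autoImplicit false
set_option linter.unusedSectionVars false

namespace CF.Ld

open Cfsg Subgroup CF.Loc CF.LX
open scoped commutatorElement

variable {G : Type*} [Group G] [Finite G] {Γ Φ : Type*} [CommGroup Γ] [CommGroup Φ] {E M A S W R : Subgroup G}
  {t z s w x y m u v d b : G} {γ : G → Γ} {φ : G → Φ} {a g l k : ℕ}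

namespace OK

theorem o3cj (b : G) (c : s * s = 1) : b * s * b⁻¹ * (b * s * b⁻¹) = 1 := by rw [conj_mul, c, mul_one, mul_inv_cancel]

theorem o3ic (b s : G) : IsConj s (b * s * b⁻¹) := isConj_iff.2 ⟨b, rfl⟩

variable (h : OK E M A S W t z γ φ a g l k)
include h

theorem o3sq (hw : w ∈ W) (a1 : φ w * φ w = 1) (a2 : φ (t * w * t) * φ (t * w * t) = 1) : w * w = 1 := by
  have w0 := h.W0 hw
  refine h.w1 (mul_mem hw hw) ?_ ?_ ?_ ?_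
  · rw [h.γm _ w0 _ w0, h.Γ2]
  · rw [h.φm _ w0 _ w0, a1]
  · rw [h.γm' w0 w0, h.Γ2]
  · rw [h.φm' w0 w0, a2]

/-- a swap of least order has an extremal conjugate normalising `A` -/
theorem o3eps (hy : y ∈ S ⊓ E) (n : y ∉ 𝐍(A)) (mn : ∀ s ∈ S ⊓ E, orderOf s < orderOf y → s ∈ 𝐍(A)) :
    ∃ b : G, b * y * b⁻¹ ∈ S ⊓ E ∧ b * y * b⁻¹ ∈ 𝐍(A) ∧ cj[b] (S ⊓ E ⊓ 𝐂₁(y)) ≤ S ⊓ E := by
  obtain ⟨ε, e1, e2⟩ := h.eps
  obtain ⟨b, -, b1, b2, b3, -⟩ := tl h.ep h.sylE (by decide) ε (fun x c y d => e1 _ (h.SM c.1) _ (h.SM d.1)) hy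
    (fun c => n ((e2 _).1 c)) fun s hs c => (e2 _).2 (mn s hs c)
  exact ⟨b, b1, (e2 _).1 b2, b3⟩

variable (hx : x ∈ W) (xE : x ∈ E) (xt : x * t = t * x) (x2 : x * x = 1) (xf : φ x ≠ 1)
include hx xE xt x2 xf

theorem o3ff (hs : s ∈ S ⊓ E) (n : s ∈ 𝐍(A)) (s2 : s * s = 1) (f1 : φ s ≠ 1) (f2 : φ (t * s * t) ≠ 1) :
    ∃ w ∈ W, w * t = t * w ∧ w * w = 1 ∧ IsConj s w ∧ γ s = γ w ∧ φ s = φ w := by
  obtain ⟨w, hw, wE, w2, -, b1, b2, b3, b4⟩ := h.o3w hs n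
  have w0 := h.W0 hw
  have x0 := h.W0 hx
  have q := h.φ2 x0 x2
  have e1 : φ w = φ x := h.o3uq (h.φ2 w0 (w2 s2)) q (b2 ▸ f1) xf
  have e2 : φ (t * w * t) = φ x := h.o3uq (h.φ2 (h.tj w0) (h.tsq (w2 s2))) q (b4 ▸ f2) xf
  have := h.c5 ⟨h.WS (mul_mem hw hx), mul_mem wE xE⟩ (by rw [h.φm _ w0 _ x0, e1, q])
    (by rw [h.φm' w0 x0, e2, h.tfix xt, q])
  rw [h.γm _ w0 _ x0, h.γm' w0 x0, h.tfix xt, mul_left_inj] at this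
  exact ⟨w, hw, h.diag hw this.symm (e2.trans e1.symm), w2 s2,
    h.lang2 ⟨hs.1, n⟩ s2 hw f1 f2 b1.symm b2.symm b3.symm b4.symm, b1, b2⟩

theorem o3ff2 (hs : s ∈ S ⊓ E) (n : s ∈ 𝐍(A)) (s2 : s * s = 1) (f1 : φ s ≠ 1) (f2 : φ (t * s * t) ≠ 1) (hy : y ∈ S)
    (e : IsConj y s) : y ∈ 𝐍(A) ∧ φ y ≠ 1 ∧ φ (t * y * t) ≠ 1 :=
  have ⟨_, hw, c, w2, d, _, b⟩ := h.o3ff hx xE xt x2 xf hs n s2 f1 f2
  h.f2 hw c w2 (b ▸ f1) hy (e.trans d).symm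

theorem o3a1 (hw : w ∈ W) (wE : w ∈ E) (w2 : w * w = 1) (f : φ w ≠ 1) : φ (t * w * t) ≠ 1 := fun f' => by
  obtain ⟨ν, n1, n2⟩ := h.o3nu h.φm
  have w0 := h.W0 hw
  have wS := (h.WS hw).1
  have n3 : ∀ x ∈ S ⊓ E, ∀ y ∈ S ⊓ E, ν (x * y) = ν x * ν y := fun x c y d => n1 _ (h.SM c.1) _ (h.SM d.1)
  obtain ⟨b, -, b1, b2, b3, -⟩ := tl h.ep h.sylE (O3.uniq h.Φc) ν n3 ⟨wS, wE⟩ (by rwa [n2 _ w0.2, f', mul_one])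
    (O3.mn2 n3 w2)
  have big : 2 * Nat.card W * Nat.card ↥(S ⊓ A) < Nat.card ↥(S ⊓ 𝐂₁(b * w * b⁻¹)) := by
    refine lt_of_lt_of_le ?_ (h.o3tr b3)
    have a1 := h.loF w hw f (h.φ2 w0 w2)
    by_cases c : γ (t * w * t) = 1
    · rw [inf_eq_left.2 (show S ⊓ A ≤ 𝐂₁(t * w * t) from fun u hu =>
        c1m.2 (mem_centralizer_iff'.1 (h.cen _ (h.wt hw) c f') u hu.2))]
      obtain ⟨-, -, a2, -, a3⟩ := h.nF ⟨w, hw, f⟩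
      refine Nat.mul_lt_mul_of_pos_right (lt_of_le_of_lt ?_ (a2.trans_le a1)) Nat.card_pos
      exact (Nat.le_mul_of_pos_right _ a3).trans (Nat.le_self_pow two_ne_zero _)
    · exact (mul_right_comm 2 _ _ ▸ ((h.nG ⟨_, h.wt hw, c⟩).2.2.2 ⟨w, hw, f⟩).2).trans_le
        (Nat.mul_le_mul a1 (h.loG _ (h.wt hw) c f'))
  have n : b * w * b⁻¹ ∈ 𝐍(A) := by_contra fun n => (h.upSw b1.1 n).not_gt big
  rw [n2 _ n] at b2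
  have v1 : φ (b * w * b⁻¹) = 1 := by_contra fun c =>
    (h.o3FF ⟨b1.1, n⟩ c fun d => c (by rwa [d, mul_one] at b2)).not_gt big
  rw [v1, one_mul] at b2
  have xw := mul_mem hw (h.wt hw)
  have b4 := b3 (conj_mem_cj b ⟨⟨(h.WS xw).1, mul_mem wE (h.o3tE wE)⟩, c1m.2 (h.wcomm xw hw)⟩)
  obtain ⟨c1, c2, c3⟩ := h.f2 xw (h.o3d hw) (h.o3d2 hw w2) (by rwa [h.φm _ w0 _ (h.tj w0), f', mul_one]) b4.1 (o3ic b _)
  have e : b * (t * w * t) * b⁻¹ = b * w * b⁻¹ * (b * (w * (t * w * t)) * b⁻¹) := by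
    rw [conj_mul, ← mul_assoc w, w2, one_mul]
  have v0 : b * w * b⁻¹ ∈ M ⊓ 𝐍(A) := ⟨h.SM b1.1, n⟩
  have u0 : b * (w * (t * w * t)) * b⁻¹ ∈ M ⊓ 𝐍(A) := ⟨h.SM b4.1, c1⟩
  exact (h.o3ff2 hx xE xt x2 xf (e ▸ mul_mem b1 b4) (e ▸ mul_mem n c1) (o3cj b (h.tsq w2))
    (by rwa [e, h.φm _ v0 _ u0, v1, one_mul]) (by rwa [e, h.φm' v0 u0, b2, one_mul]) (h.tS' wS) (o3ic b _)).2.1 f'

theorem o3a1' (hs : s ∈ S ⊓ E) (n : s ∈ 𝐍(A)) (s2 : s * s = 1) : φ s = φ (t * s * t) := by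
  obtain ⟨w, hw, wE, w2, -, -, b2, -, b4⟩ := h.o3w hs n
  rw [b2, b4]
  by_cases c : φ w = 1
  · rw [c, eq_comm]
    by_contra d
    exact h.o3a1 hx xE xt x2 xf (h.wt hw) (h.o3tE wE) (h.tsq (w2 s2)) d (by rwa [h.tc])
  · exact h.o3uq (h.φ2 (h.W0 hw) (w2 s2)) (h.φ2 (h.W0 (h.wt hw)) (h.tsq (w2 s2))) c
      (h.o3a1 hx xE xt x2 xf hw wE (w2 s2) c)

theorem o3a2 (hs : s ∈ S ⊓ E) (s2 : s * s = 1) : s ∈ 𝐍(A) := by_contra fun n => by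
  obtain ⟨w, hw, yE, c⟩ := h.o3s hs n
  obtain ⟨yS, yn⟩ := h.o3n hw
  have y2 : w * t * (w * t) = 1 := by rw [← c s2]; group
  have xy : x * (w * t) = w * t * x := by rw [← mul_assoc, h.wcomm hx hw, mul_assoc, xt, mul_assoc]
  generalize w * t = y at yE yS yn y2 xy
  obtain ⟨b, b1, b2, b3⟩ := h.o3eps ⟨yS, yE⟩ yn fun s _ c => by
    have := Nat.le_of_dvd two_pos (orderOf_dvd_of_pow_eq_one ((pow_two y).trans y2))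
    have := orderOf_pos s
    rw [orderOf_eq_one_iff.1 (by omega : orderOf s = 1)]
    exact one_mem _
  have xS := h.WS hx
  have b4 := b3 (conj_mem_cj b ⟨⟨xS.1, xE⟩, c1m.2 xy⟩)
  obtain ⟨c1, c2, c3⟩ := h.f2 hx xt x2 xf b4.1 (o3ic b _)
  have e := h.o3a1' hx xE xt x2 xf b1 b2 (o3cj b y2)
  by_cases f : φ (b * y * b⁻¹) = 1
  · have v0 : b * y * b⁻¹ ∈ M ⊓ 𝐍(A) := ⟨h.SM b1.1, b2⟩
    have u0 : b * x * b⁻¹ ∈ M ⊓ 𝐍(A) := ⟨h.SM b4.1, c1⟩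
    exact yn ((𝐍(A).mul_mem_cancel_right xS.2).1 (h.o3ff2 hx xE xt x2 xf (mul_mem b1 b4) (mul_mem b2 c1)
      (by rw [conj_mul]; exact o3cj b (by rw [mul_assoc, ← mul_assoc x, xy, mul_assoc y, x2, mul_one, y2]))
      (by rwa [h.φm _ v0 _ u0, f, one_mul]) (by rwa [h.φm' v0 u0, ← e, f, one_mul]) (mul_mem yS xS.1)
      (by rw [conj_mul]; exact o3ic b _)).1)
  · exact yn (h.o3ff2 hx xE xt x2 xf b1 b2 (o3cj b y2) f (e ▸ f) yS (o3ic b _)).1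

theorem o3a3 (P : ∀ b ∈ S ⊓ E, ∀ s ∈ S ⊓ E, s ∈ 𝐍(A) → φ (b * s * b⁻¹) = φ s) : False := by
  let K : Subgroup G :=
    { carrier := {s | s ∈ M ⊓ 𝐍(A) ∧ φ s = 1}
      mul_mem' := fun c d => ⟨mul_mem c.1 d.1, by rw [h.φm _ c.1 _ d.1, c.2, d.2, mul_one]⟩
      one_mem' := ⟨one_mem _, h.φ1⟩
      inv_mem' := fun c => ⟨inv_mem c.1, by rw [h.φi c.1, c.2, inv_one]⟩ }
  have nn : ∀ b ∈ S ⊓ E, ∀ s ∈ M ⊓ 𝐍(A), b * s * b⁻¹ ∈ M ⊓ 𝐍(A) := fun b hb s hs => by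
    have bM := h.SM hb.1
    by_cases c : b ∈ 𝐍(A)
    · exact mul_mem (mul_mem ⟨bM, c⟩ hs) (inv_mem ⟨bM, c⟩)
    · exact ⟨M.mul_mem (M.mul_mem bM hs.1) (M.inv_mem bM), h.swp_mul (mul_mem bM hs.1) (M.inv_mem bM)
        (fun d => c ((𝐍(A).mul_mem_cancel_right hs.2).1 d)) fun d => c (𝐍(A).inv_mem_iff.1 d)⟩
  have k1 : ∀ b ∈ S ⊓ E, ∀ s ∈ S ⊓ E, s ∈ 𝐍(A) → ⁅b, s⁆ ∈ K := fun b hb s hs n =>
    have s0 : s ∈ M ⊓ 𝐍(A) := ⟨h.SM hs.1, n⟩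
    ⟨mul_mem (nn b hb s s0) (inv_mem s0), by
      rw [commutatorElement_def, h.φm _ (nn b hb s s0) _ (inv_mem s0), P b hb s hs n, h.φi s0, mul_inv_cancel]⟩
  have xS := h.WS hx
  refine xf (O3.xt (K := K) h.ep h.sylE (commutator_le.2 fun b hb s hs => ?_) ⟨xS.1, xE⟩ x2 fun b c => ?_).2
  · by_cases c : s ∈ 𝐍(A)
    · exact k1 b hb s hs c
    by_cases d : b ∈ 𝐍(A)
    · exact commutatorElement_inv s b ▸ inv_mem (k1 s hs b hb d)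
    have r := mul_mem (inv_mem hb) hs
    have q := k1 b hb _ r (h.swp_mul (h.SM (inv_mem hb.1)) (h.SM hs.1) (fun e => d (inv_mem_iff.1 e)) c)
    rw [show ⁅b, s⁆ = b * ⁅b, b⁻¹ * s⁆ * b⁻¹ by group]
    exact ⟨nn b hb _ q.1, (P b hb _ (mul_mem (mul_mem (mul_mem hb r) (inv_mem hb)) (inv_mem r)) q.1.2).trans q.2⟩
  · have e : IsConj x (b⁻¹ * x * b) := isConj_iff.2 ⟨b⁻¹, by rw [inv_inv]⟩
    obtain ⟨c1, c2, -⟩ := h.f2 hx xt x2 xf c.1 e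
    have u0 : b⁻¹ * x * b ∈ M ⊓ 𝐍(A) := ⟨h.SM c.1, c1⟩
    have x0 := h.W0 hx
    refine ⟨mul_mem (inv_mem x0) u0, ?_⟩
    rw [h.φm _ (inv_mem x0) _ u0, h.φi x0, h.o3uq (h.φ2 u0 (by simpa using o3cj b⁻¹ x2)) (h.φ2 x0 x2) c2 xf,
      inv_mul_cancel]

end OK

end CF.Ld
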